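import Mathlib

/-!
# Computed facts about the alternating group of degree six
-/

set_option autoImplicit false

namespace Cfsg.Agent.Lib.Helper5.AutA6

theorem card_a6 : Nat.card (alternatingGroup (Fin 6)) = 360 := by
  have h := two_mul_card_alternatingGroup (α := Fin 6)
  rw [Fintype.card_perm, Fintype.card_fin] at h
  have h6 : (6 : ℕ).factorial = 720 := by decide
  rw [h6] at h
  rw [Nat.card_eq_fintype_card]
  omega

set_option maxRecDepth 100000 in
theorem a6_orders : ∀ g : alternatingGroup (Fin 6), g ^ 3 = 1 ∨ g ^ 4 = 1 ∨ g ^ 5 = 1 := by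
  decide +kernel

set_option maxRecDepth 100000 in
theorem a6_count3 :
    (Finset.univ.filter (fun g : alternatingGroup (Fin 6) => g ^ 3 = 1)).card = 81 := by
  decide +kernel

set_option maxRecDepth 100000 in
theorem a6_count5 :
    (Finset.univ.filter (fun g : alternatingGroup (Fin 6) => g ^ 5 = 1)).card = 145 := by
  decide +kernel

end Cfsg.Agent.Lib.Helper5.AutA6
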