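import Mathlib
import Cfsg.Agent.Lib.Lead.PGroup
import Cfsg.Agent.H9.Ord504A
import Cfsg.Agent.Lib.Helper5.Ord360.Sylow3

/-!
# Sylow 2-subgroups of a group `A6.4` pairwise meet
-/

set_option autoImplicit false

namespace Cfsg.Agent.Lib.Helper5.AutA6

open Subgroup
open scoped Pointwise

section fixed

variable {G : Type*} [Group G]

/-- an involution normalizing a subgroup of even order centralizes a nontrivial element of it -/
theorem exists_fixed_of_even (C : Subgroup G) [Finite C] (hC : 2 ∣ Nat.card C) (t : G)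
    (ht : t * t = 1) (hnorm : ∀ c ∈ C, t * c * t⁻¹ ∈ C) :
    ∃ z ∈ C, z ≠ 1 ∧ t * z = z * t := by
  classical
  have : Fintype C := Fintype.ofFinite _
  have : Fact (Nat.Prime 2) := ⟨Nat.prime_two⟩
  have hti : t⁻¹ = t := inv_eq_of_mul_eq_one_left ht
  let f : Function.End C := fun c => ⟨t * c * t⁻¹, hnorm c c.2⟩
  have hf : f ^ 2 ^ 1 = 1 := by
    rw [pow_one, pow_two]
    funext c
    apply Subtype.ext
    show t * (t * c * t⁻¹) * t⁻¹ = c
    rw [hti]
    calc t * (t * c * t) * t = (t * t) * c * (t * t) := by group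
      _ = c := by rw [ht, one_mul, mul_one]
  have h1 := Equiv.Perm.card_fixedPoints_modEq (p := 2) (n := 1) hf
  have hmem : (1 : C) ∈ Function.fixedPoints f := by
    show f 1 = 1
    apply Subtype.ext
    show t * (1 : G) * t⁻¹ = 1
    rw [mul_one, mul_inv_cancel]
  have hcard : 1 < Fintype.card (Function.fixedPoints f) := by
    have hpos : 0 < Fintype.card (Function.fixedPoints f) := Fintype.card_pos_iff.mpr ⟨⟨1, hmem⟩⟩
    have h2 : Fintype.card C % 2 = 0 := by
      rw [← Nat.card_eq_fintype_card]; exact Nat.mod_eq_zero_of_dvd hC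
    have h3 : Fintype.card C % 2 = Fintype.card (Function.fixedPoints f) % 2 := h1
    omega
  obtain ⟨⟨z, hz⟩, hne⟩ := Fintype.exists_ne_of_one_lt_card hcard ⟨1, hmem⟩
  refine ⟨z.1, z.2, ?_, ?_⟩
  · intro h
    apply hne
    apply Subtype.ext
    apply Subtype.ext
    exact h
  · have h4 : t * z.1 * t⁻¹ = z.1 := congrArg Subtype.val hz
    calc t * z.1 = t * z.1 * t⁻¹ * t := by group
      _ = z.1 * t := by rw [h4]


/-- an involution inverting `y` normalizes the centralizer of `y` -/
theorem normalizes_centralizer {t y : G} (htt : t * t = 1) (hty : t * y * t⁻¹ = y⁻¹) :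
    ∀ c ∈ centralizer ({y} : Set G), t * c * t⁻¹ ∈ centralizer ({y} : Set G) := by
  have hti : t⁻¹ = t := inv_eq_of_mul_eq_one_left htt
  rw [hti] at hty
  have hy : y = t * y⁻¹ * t := by
    calc y = (t * t) * y * (t * t) := by rw [htt, one_mul, mul_one]
      _ = t * (t * y * t) * t := by group
      _ = t * y⁻¹ * t := by rw [hty]
  intro c hc
  rw [Subgroup.mem_centralizer_iff] at hc ⊢
  intro s hs
  rw [Set.mem_singleton_iff] at hs
  rw [hs, hti]
  have hc' : y * c = c * y := hc y rfl
  have hci : y⁻¹ * c = c * y⁻¹ := by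
    calc y⁻¹ * c = y⁻¹ * (c * y) * y⁻¹ := by group
      _ = y⁻¹ * (y * c) * y⁻¹ := by rw [hc']
      _ = c * y⁻¹ := by group
  calc y * (t * c * t) = (t * y⁻¹ * t) * (t * c * t) := by rw [← hy]
    _ = t * y⁻¹ * (t * t) * c * t := by group
    _ = t * (y⁻¹ * c) * t := by rw [htt]; group
    _ = t * (c * y⁻¹) * t := by rw [hci]
    _ = t * c * (t * t) * y⁻¹ * t := by rw [htt]; group
    _ = t * c * t * (t * y⁻¹ * t) := by group
    _ = t * c * t * y := by rw [← hy]

end fixed

section main

variable {G : Type*} [Group G] [Finite G] (N : Subgroup G) [hNn : N.Normal]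

include hNn in
/-- elements of odd order lie in a normal subgroup of index 4 -/
theorem mem_of_odd_order (hidx : N.index = 4) (c : G) (hc : Odd (orderOf c)) : c ∈ N := by
  have h1 : c ^ 4 ∈ N := by
    have := Subgroup.pow_index_mem N c
    rwa [hidx] at this
  have hco : Nat.Coprime 4 (orderOf c) := by
    have : Nat.Coprime 2 (orderOf c) := (Nat.coprime_two_left).mpr hc
    exact Nat.Coprime.pow_left 2 this
  obtain ⟨m, hm⟩ := exists_pow_eq_self_of_coprime hco
  rw [← hm]
  exact N.pow_mem h1 m

/-- The data: `N ≅ A6` of index 4, in abstract form. -/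
structure Data : Prop where
  card : Nat.card N = 360
  idx : N.index = 4
  ord : ∀ g ∈ N, orderOf g ≤ 5
  c3 : Nat.card {g : G // g ∈ N ∧ g ^ 3 = 1} ≤ 81
  c5 : Nat.card {g : G // g ∈ N ∧ g ^ 5 = 1} ≤ 145

variable {N}

theorem Data.card_G (hD : Data N) : Nat.card G = 1440 := by
  have := Subgroup.card_mul_index N
  rw [hD.card, hD.idx] at this
  omega

/-- no element of order `2p` or `pq` -/
theorem Data.no_mixed (hD : Data N) {a b : G} (ha : a ∈ N) (hb : b ∈ N) (hab : Commute a b)
    (hco : (orderOf a).Coprime (orderOf b)) (h : 5 < orderOf a * orderOf b) : False := by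
  have h1 := hab.orderOf_mul_eq_mul_orderOf_of_coprime hco
  have h2 := hD.ord (a * b) (N.mul_mem ha hb)
  omega

include hNn in
/-- the centralizer of an involution of `N` centralized by a Sylow 2-subgroup is that subgroup -/
theorem Data.centralizer_invol (hD : Data N) (H : Sylow 2 G) {t : G} (htN : t ∈ N)
    (ht : orderOf t = 2) (hH : (H : Subgroup G) ≤ centralizer ({t} : Set G)) :
    centralizer ({t} : Set G) = H := by
  have : Fact (Nat.Prime 2) := ⟨Nat.prime_two⟩
  have hG := hD.card_G
  have hHc : Nat.card (H : Subgroup G) = 32 := by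
    have := Cfsg.Agent.Lib.Helper5.Ord360.sylow_card_eq H 5 45 (by rw [hG]; norm_num) (by norm_num)
    rw [this]; norm_num
  symm
  apply Subgroup.eq_of_le_of_card_ge hH
  rw [hHc]
  by_contra hlt
  push Not at hlt
  have hd1 : 32 ∣ Nat.card (centralizer ({t} : Set G)) := by
    rw [← hHc]; exact Subgroup.card_dvd_of_le hH
  have hd2 : Nat.card (centralizer ({t} : Set G)) ∣ 1440 := by
    rw [← hG]; exact Subgroup.card_subgroup_dvd_card _
  obtain ⟨k, hk⟩ := hd1
  have hk45 : k ∣ 45 := by
    have : 32 * k ∣ 32 * 45 := by rw [← hk]; exact hd2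
    exact Nat.dvd_of_mul_dvd_mul_left (by norm_num) this
  have hk1 : 1 < k := by omega
  -- a prime 3 or 5 divides the centralizer order
  have hp : ∃ p : ℕ, p.Prime ∧ (p = 3 ∨ p = 5) ∧ p ∣ Nat.card (centralizer ({t} : Set G)) := by
    have hle : k ≤ 45 := Nat.le_of_dvd (by norm_num) hk45
    have h35 : 3 ∣ k ∨ 5 ∣ k := by
      clear hk hlt
      interval_cases k <;> omega
    rcases h35 with h | h
    · exact ⟨3, by norm_num, Or.inl rfl, by rw [hk]; exact Dvd.dvd.mul_left h 32⟩
    · exact ⟨5, by norm_num, Or.inr rfl, by rw [hk]; exact Dvd.dvd.mul_left h 32⟩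
  obtain ⟨p, hpp, hp35, hpd⟩ := hp
  have : Fact p.Prime := ⟨hpp⟩
  obtain ⟨a, ha⟩ := exists_prime_orderOf_dvd_card' p hpd
  have ha' : orderOf (a : G) = p := by rw [Subgroup.orderOf_coe]; exact ha
  have haodd : Odd (orderOf (a : G)) := by
    rw [ha']
    rcases hp35 with rfl | rfl <;> decide
  have haN : (a : G) ∈ N := mem_of_odd_order N hD.idx _ haodd
  have hcomm : Commute t (a : G) := by
    have := a.2
    rw [Subgroup.mem_centralizer_iff] at this
    exact (this t rfl)
  refine hD.no_mixed htN haN hcomm ?_ ?_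
  · rw [ht, ha']
    rcases hp35 with rfl | rfl <;> decide
  · rw [ht, ha']
    rcases hp35 with rfl | rfl <;> norm_num


include hNn in
/-- the class of a nontrivial element `y` of `N` with `y ^ k = 1` is smaller than the solution set -/
theorem class_lt {y : G} (hyN : y ∈ N) (k : ℕ) (hyk : y ^ k = 1) (hy1 : y ≠ 1) :
    Nat.card {x : G // ∃ g : G, g * y * g⁻¹ = x} < Nat.card {g : G // g ∈ N ∧ g ^ k = 1} := by
  classical
  have : Fintype {x : G // ∃ g : G, g * y * g⁻¹ = x} := Fintype.ofFinite _
  have : Fintype {g : G // g ∈ N ∧ g ^ k = 1} := Fintype.ofFinite _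
  rw [Nat.card_eq_fintype_card, Nat.card_eq_fintype_card]
  let f : {x : G // ∃ g : G, g * y * g⁻¹ = x} → {g : G // g ∈ N ∧ g ^ k = 1} := fun x =>
    ⟨x.1, by
      obtain ⟨g, hg⟩ := x.2
      rw [← hg]
      refine ⟨hNn.conj_mem y hyN g, ?_⟩
      rw [conj_pow, hyk, mul_one, mul_inv_cancel]⟩
  have hf : Function.Injective f := by
    intro a b hab
    apply Subtype.ext
    have h1 : (f a).1 = (f b).1 := by rw [hab]
    exact h1
  have hnot : (⟨1, N.one_mem, one_pow k⟩ : {g : G // g ∈ N ∧ g ^ k = 1}) ∉ Set.range f := by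
    rintro ⟨a, ha⟩
    obtain ⟨g, hg⟩ := a.2
    have h1 : a.1 = 1 := congrArg Subtype.val ha
    rw [h1] at hg
    apply hy1
    have : y = g⁻¹ * (g * y * g⁻¹) * g := by group
    rw [this, hg]; group
  exact Fintype.card_lt_of_injective_of_notMem f hf hnot

include hNn in
/-- the centralizer in `G` of an element of order 3 or 5 of `N` has even order -/
theorem Data.even_centralizer (hD : Data N) {y : G} (hyN : y ∈ N) {p : ℕ} (hp : p = 3 ∨ p = 5)
    (hy : orderOf y = p) : 2 ∣ Nat.card (centralizer ({y} : Set G)) := by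
  by_contra hodd
  have hG := hD.card_G
  have hpp : p.Prime := by rcases hp with rfl | rfl <;> norm_num
  have hoddC : Odd (Nat.card (centralizer ({y} : Set G))) := by
    rw [Nat.odd_iff]; omega
  have hCN : centralizer ({y} : Set G) ≤ N := by
    intro c hc
    apply mem_of_odd_order N hD.idx
    have h1 : orderOf c ∣ Nat.card (centralizer ({y} : Set G)) := by
      have := orderOf_dvd_natCard (⟨c, hc⟩ : centralizer ({y} : Set G))
      rwa [Subgroup.orderOf_mk] at this
    exact Odd.of_dvd_nat hoddC h1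
  have hd360 : Nat.card (centralizer ({y} : Set G)) ∣ 360 := by
    rw [← hD.card]; exact Subgroup.card_dvd_of_le hCN
  have hq : ∀ q : ℕ, q.Prime → q ≠ p → q ≠ 2 → ¬ q ∣ Nat.card (centralizer ({y} : Set G)) := by
    intro q hqp hqne hq2 hqd
    have : Fact q.Prime := ⟨hqp⟩
    obtain ⟨a, ha⟩ := exists_prime_orderOf_dvd_card' q hqd
    have ha' : orderOf (a : G) = q := by rw [Subgroup.orderOf_coe]; exact ha
    have hcomm : Commute y (a : G) := by
      have := a.2
      rw [Subgroup.mem_centralizer_iff] at this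
      exact (this y rfl)
    have hq3 : 3 ≤ q := by have := hqp.two_le; omega
    refine hD.no_mixed hyN (hCN a.2) hcomm ?_ ?_
    · rw [hy, ha']; exact (Nat.coprime_primes hpp hqp).mpr (Ne.symm hqne)
    · rw [hy, ha']; rcases hp with rfl | rfl <;> nlinarith
  have hd45 : Nat.card (centralizer ({y} : Set G)) ∣ 45 := by
    have hco : Nat.Coprime (Nat.card (centralizer ({y} : Set G))) 8 := by
      have : Nat.Coprime (Nat.card (centralizer ({y} : Set G))) 2 :=
        (Nat.coprime_two_right).mpr hoddC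
      exact Nat.Coprime.pow_right 3 this
    have : Nat.card (centralizer ({y} : Set G)) ∣ 8 * 45 := by norm_num; exact hd360
    exact hco.dvd_of_dvd_mul_left this
  have hle45 : Nat.card (centralizer ({y} : Set G)) ≤ 45 := Nat.le_of_dvd (by norm_num) hd45
  have hy1 : y ≠ 1 := by
    rintro rfl
    rw [orderOf_one] at hy
    rcases hp with rfl | rfl <;> omega
  have hcl := Cfsg.Agent.H9.Ord504.card_centralizer_mul_card_conj y
  rw [hG] at hcl
  rcases hp with rfl | rfl
  · have h5 := hq 5 (by norm_num) (by norm_num) (by norm_num)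
    have hle : Nat.card (centralizer ({y} : Set G)) ≤ 9 := by
      generalize Nat.card (centralizer ({y} : Set G)) = n at *
      clear hcl hq
      interval_cases n <;> omega
    have hlt := class_lt hyN 3 (by rw [← hy]; exact pow_orderOf_eq_one y) hy1
    have := hD.c3
    nlinarith
  · have h3 := hq 3 (by norm_num) (by norm_num) (by norm_num)
    have hle : Nat.card (centralizer ({y} : Set G)) ≤ 5 := by
      generalize Nat.card (centralizer ({y} : Set G)) = n at *
      clear hcl hq
      interval_cases n <;> omega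
    have hlt := class_lt hyN 5 (by rw [← hy]; exact pow_orderOf_eq_one y) hy1
    have := hD.c5
    nlinarith


include hNn in
theorem Data.sylow_meet (hD : Data N) (H : Sylow 2 G) (x : G) :
    (H : Subgroup G) ⊓ MulAut.conj x • (H : Subgroup G) ≠ ⊥ := by
  classical
  have : Fact (Nat.Prime 2) := ⟨Nat.prime_two⟩
  have hG := hD.card_G
  have hHc : Nat.card (H : Subgroup G) = 32 := by
    have := Cfsg.Agent.Lib.Helper5.Ord360.sylow_card_eq H 5 45 (by rw [hG]; norm_num) (by norm_num)
    rw [this]; norm_num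
  -- a nontrivial element of `H ∩ N`
  have hK : N.subgroupOf (H : Subgroup G) ≠ ⊥ := by
    have : Fintype (H : Subgroup G) := Fintype.ofFinite _
    have : Fintype (G ⧸ N) := Fintype.ofFinite _
    have hlt : Fintype.card (G ⧸ N) < Fintype.card (H : Subgroup G) := by
      rw [← Nat.card_eq_fintype_card, ← Nat.card_eq_fintype_card, hHc, ← Subgroup.index_eq_card,
        hD.idx]
      norm_num
    obtain ⟨a, b, hab, hf⟩ := Fintype.exists_ne_map_eq_of_card_lt
      (fun h : (H : Subgroup G) => ((h : G) : G ⧸ N)) hlt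
    have h1 : (a : G)⁻¹ * (b : G) ∈ N := QuotientGroup.eq.mp hf
    intro hbot
    have h2 : a⁻¹ * b ∈ N.subgroupOf (H : Subgroup G) := by
      rw [Subgroup.mem_subgroupOf]; exact h1
    rw [hbot, Subgroup.mem_bot] at h2
    exact hab (inv_mul_eq_one.mp h2)
  have hHp : IsPGroup 2 (H : Subgroup G) := H.isPGroup'
  obtain ⟨z0, hz0K, hz0Z, hz0⟩ :=
    Cfsg.Agent.Lib.Lead.PGroup.exists_mem_center_of_normal hHp (N.subgroupOf (H : Subgroup G)) hK
  obtain ⟨k, hk⟩ := (IsPGroup.iff_orderOf.mp hHp) z0
  have hk0 : k ≠ 0 := by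
    rintro rfl
    rw [pow_zero, orderOf_eq_one_iff] at hk
    exact hz0 hk
  have h2dvd : 2 ∣ orderOf z0 := by
    rw [hk]; exact dvd_pow_self 2 hk0
  have hord0 : orderOf z0 ≠ 0 := by rw [hk]; positivity
  have ht0 : orderOf (z0 ^ (orderOf z0 / 2)) = 2 := orderOf_pow_orderOf_div hord0 h2dvd
  set t0 : (H : Subgroup G) := z0 ^ (orderOf z0 / 2) with ht0def
  have ht : orderOf (t0 : G) = 2 := by rw [Subgroup.orderOf_coe]; exact ht0
  have htN : (t0 : G) ∈ N := by
    have h1 : (z0 : G) ∈ N := Subgroup.mem_subgroupOf.mp hz0K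
    have h2 : (t0 : G) = (z0 : G) ^ (orderOf z0 / 2) := by rw [ht0def]; rfl
    rw [h2]; exact N.pow_mem h1 _
  have ht0Z : t0 ∈ Subgroup.center (H : Subgroup G) := (Subgroup.center _).pow_mem hz0Z _
  have hH : (H : Subgroup G) ≤ centralizer ({(t0 : G)} : Set G) := by
    intro h hh
    rw [Subgroup.mem_centralizer_iff]
    intro s hs
    rw [Set.mem_singleton_iff] at hs
    subst hs
    have := (Subgroup.mem_center_iff.mp ht0Z) ⟨h, hh⟩
    have h3 := congrArg Subtype.val this
    simpa using h3.symm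
  have hCt := hD.centralizer_invol H htN ht hH
  obtain ⟨t, htdef⟩ : ∃ t : G, t = (t0 : G) := ⟨_, rfl⟩
  rw [← htdef] at ht htN hH hCt
  have htt : t * t = 1 := by
    have := pow_orderOf_eq_one t
    rw [ht, pow_two] at this
    exact this
  have hti : t⁻¹ = t := inv_eq_of_mul_eq_one_left htt
  have ht1 : t ≠ 1 := by
    intro h
    rw [h, orderOf_one] at ht
    omega
  obtain ⟨u, hudef⟩ : ∃ u : G, u = x * t * x⁻¹ := ⟨_, rfl⟩
  have huN : u ∈ N := by rw [hudef]; exact hNn.conj_mem t htN x
  have huu : u * u = 1 := by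
    rw [hudef]
    calc x * t * x⁻¹ * (x * t * x⁻¹) = x * (t * t) * x⁻¹ := by group
      _ = 1 := by rw [htt]; group
  have hui : u⁻¹ = u := inv_eq_of_mul_eq_one_left huu
  -- it suffices to find a nontrivial element commuting with `t` and `u`
  suffices hex : ∃ z : G, z ≠ 1 ∧ z * t = t * z ∧ z * u = u * z by
    obtain ⟨z, hz1, hzt, hzu⟩ := hex
    intro hbot
    have hzH : z ∈ (H : Subgroup G) := by
      rw [← hCt, Subgroup.mem_centralizer_iff]
      intro s hs
      rw [Set.mem_singleton_iff] at hs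
      subst hs
      exact hzt.symm
    have hzH' : z ∈ MulAut.conj x • (H : Subgroup G) := by
      rw [Subgroup.mem_pointwise_smul_iff_inv_smul_mem]
      show (MulAut.conj x)⁻¹ • z ∈ (H : Subgroup G)
      rw [← hCt, Subgroup.mem_centralizer_iff]
      intro s hs
      rw [Set.mem_singleton_iff] at hs
      rw [hs]
      have h1 : (MulAut.conj x)⁻¹ • z = x⁻¹ * z * x := by
        simp [MulAut.smul_def]
      rw [h1]
      have h2 : z * (x * t * x⁻¹) = (x * t * x⁻¹) * z := by rw [← hudef]; exact hzu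
      calc t * (x⁻¹ * z * x) = x⁻¹ * ((x * t * x⁻¹) * z) * x := by group
        _ = x⁻¹ * (z * (x * t * x⁻¹)) * x := by rw [h2]
        _ = x⁻¹ * z * x * t := by group
    have : z ∈ (H : Subgroup G) ⊓ MulAut.conj x • (H : Subgroup G) := ⟨hzH, hzH'⟩
    rw [hbot, Subgroup.mem_bot] at this
    exact hz1 this
  -- the product `y = t u`
  obtain ⟨y, hydef⟩ : ∃ y : G, y = t * u := ⟨_, rfl⟩
  have hyN : y ∈ N := by rw [hydef]; exact N.mul_mem htN huN
  have hty : t * y * t⁻¹ = y⁻¹ := by
    rw [hydef, mul_inv_rev, hui, hti]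
    calc t * (t * u) * t = (t * t) * u * t := by group
      _ = u * t := by rw [htt, one_mul]
  have huy : u * y * u⁻¹ = y⁻¹ := by
    rw [hydef, mul_inv_rev, hui, hti]
    calc u * (t * u) * u = u * t * (u * u) := by group
      _ = u * t := by rw [huu, mul_one]
  have hyle := hD.ord y hyN
  have hypos : 0 < orderOf y := orderOf_pos y
  -- case analysis on the order of y
  have hcases : orderOf y = 1 ∨ orderOf y = 2 ∨ orderOf y = 3 ∨ orderOf y = 4 ∨ orderOf y = 5 := by
    omega
  rcases hcases with h1 | h2 | h3 | h4 | h5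
  · -- u = t
    refine ⟨t, ht1, rfl, ?_⟩
    have hy1 : y = 1 := orderOf_eq_one_iff.mp h1
    have hut : u = t := by
      have : t * u = t * t := by rw [← hydef, hy1, htt]
      exact mul_left_cancel this
    rw [hut]
  · -- t and u commute
    refine ⟨t, ht1, rfl, ?_⟩
    have hy2 : y * y = 1 := by
      have := pow_orderOf_eq_one y
      rw [h2, pow_two] at this
      exact this
    have hyi : y⁻¹ = y := inv_eq_of_mul_eq_one_left hy2
    have h3 : u * t = t * u := by
      have : y⁻¹ = u * t := by rw [hydef, mul_inv_rev, hui, hti]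
      rw [← this, hyi]
      exact hydef
    exact h3.symm
  · -- order 3
    have hev := hD.even_centralizer hyN (Or.inl rfl) h3
    have hnorm := normalizes_centralizer htt hty
    obtain ⟨z, hzC, hz1, hzt⟩ := exists_fixed_of_even (centralizer ({y} : Set G)) hev t htt hnorm
    refine ⟨z, hz1, hzt.symm, ?_⟩
    have hzy : y * z = z * y := (Subgroup.mem_centralizer_iff.mp hzC) y rfl
    have hu : u = t * y := by rw [hydef, ← mul_assoc, htt, one_mul]
    rw [hu]
    calc z * (t * y) = (z * t) * y := by group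
      _ = (t * z) * y := by rw [hzt]
      _ = t * (z * y) := by group
      _ = t * (y * z) := by rw [hzy]
      _ = t * y * z := by group
  · -- order 4: z = y ^ 2
    have hy4 : y ^ 4 = 1 := by rw [← h4]; exact pow_orderOf_eq_one y
    have hy2 : y ^ 2 ≠ 1 := by
      intro h
      have := orderOf_dvd_of_pow_eq_one h
      rw [h4] at this
      omega
    have hinv : (y⁻¹) ^ 2 = y ^ 2 := by
      rw [inv_pow]
      apply inv_eq_of_mul_eq_one_left
      rw [← pow_add]; exact hy4
    refine ⟨y ^ 2, hy2, ?_, ?_⟩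
    · have h1 : t * y ^ 2 * t⁻¹ = y ^ 2 := by
        rw [← conj_pow, hty, hinv]
      calc y ^ 2 * t = (t * y ^ 2 * t⁻¹) * t := by rw [h1]
        _ = t * y ^ 2 := by group
    · have h1 : u * y ^ 2 * u⁻¹ = y ^ 2 := by
        rw [← conj_pow, huy, hinv]
      calc y ^ 2 * u = (u * y ^ 2 * u⁻¹) * u := by rw [h1]
        _ = u * y ^ 2 := by group
  · -- order 5
    have hev := hD.even_centralizer hyN (Or.inr rfl) h5
    have hnorm := normalizes_centralizer htt hty
    obtain ⟨z, hzC, hz1, hzt⟩ := exists_fixed_of_even (centralizer ({y} : Set G)) hev t htt hnorm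
    refine ⟨z, hz1, hzt.symm, ?_⟩
    have hzy : y * z = z * y := (Subgroup.mem_centralizer_iff.mp hzC) y rfl
    have hu : u = t * y := by rw [hydef, ← mul_assoc, htt, one_mul]
    rw [hu]
    calc z * (t * y) = (z * t) * y := by group
      _ = (t * z) * y := by rw [hzt]
      _ = t * (z * y) := by group
      _ = t * (y * z) := by rw [hzy]
      _ = t * y * z := by group

end main

end Cfsg.Agent.Lib.Helper5.AutA6
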