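import Cfsg.Agent.Lib.Helper5.AutA6.Facts
import Cfsg.Agent.Lib.Helper5.AutA6.Main

/-!
# The abstract data from an isomorphism `N ≃* A6`
-/

set_option autoImplicit false

namespace Cfsg.Agent.Lib.Helper5.AutA6

variable {G : Type*} [Group G] [Finite G] {N : Subgroup G}

theorem count_le (e : N ≃* alternatingGroup (Fin 6)) (k m : ℕ)
    (hcount : (Finset.univ.filter (fun g : alternatingGroup (Fin 6) => g ^ k = 1)).card = m) :
    Nat.card {g : G // g ∈ N ∧ g ^ k = 1} ≤ m := by
  classical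
  have : Fintype {g : G // g ∈ N ∧ g ^ k = 1} := Fintype.ofFinite _
  rw [Nat.card_eq_fintype_card, ← hcount, ← Fintype.card_subtype]
  let f : {g : G // g ∈ N ∧ g ^ k = 1} → {a : alternatingGroup (Fin 6) // a ^ k = 1} := fun g =>
    ⟨e ⟨g.1, g.2.1⟩, by
      rw [← map_pow]
      have : (⟨g.1, g.2.1⟩ : N) ^ k = 1 := by
        apply Subtype.ext
        exact g.2.2
      rw [this, map_one]⟩
  apply Fintype.card_le_of_injective f
  intro a b hab
  have h1 : e ⟨a.1, a.2.1⟩ = e ⟨b.1, b.2.1⟩ := congrArg Subtype.val hab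
  have h2 : (⟨a.1, a.2.1⟩ : N) = ⟨b.1, b.2.1⟩ := e.injective h1
  apply Subtype.ext
  have h3 : ((⟨a.1, a.2.1⟩ : N) : G) = ((⟨b.1, b.2.1⟩ : N) : G) := by rw [h2]
  exact h3

theorem data_of_equiv (e : N ≃* alternatingGroup (Fin 6)) (hidx : N.index = 4) : Data N where
  card := by rw [Nat.card_congr e.toEquiv, card_a6]
  idx := hidx
  ord := by
    intro g hg
    have h1 : orderOf (e ⟨g, hg⟩) = orderOf g := by
      rw [MulEquiv.orderOf_eq, Subgroup.orderOf_mk]
    rw [← h1]
    rcases a6_orders (e ⟨g, hg⟩) with h | h | h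
    · exact (Nat.le_of_dvd (by norm_num) (orderOf_dvd_of_pow_eq_one h)).trans (by norm_num)
    · exact (Nat.le_of_dvd (by norm_num) (orderOf_dvd_of_pow_eq_one h)).trans (by norm_num)
    · exact Nat.le_of_dvd (by norm_num) (orderOf_dvd_of_pow_eq_one h)
  c3 := count_le e 3 81 a6_count3
  c5 := count_le e 5 145 a6_count5

end Cfsg.Agent.Lib.Helper5.AutA6
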